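import Cfsg.Agent.H594.Pi.ReeReg
import Cfsg.Agent.H809.PiSpor.Fus
import Cfsg.Agent.S1159

/-!
# S4324: the small Ree groups, fusion in the cyclic Sylow subgroups (helper594)
-/

set_option autoImplicit false
set_option linter.unusedSectionVars false

namespace Cfsg.Agent.H594.Pi

open Subgroup Cfsg Cfsg.Agent.H216.Pi Cfsg.Agent.LieRecognition.ReeAbs

/-- an element which induces an automorphism of order `4` -/
theorem not_four_dvd_fus {L : Type*} [Group L] [Finite L] (h4 : ∀ g : L, ¬ 4 ∣ orderOf g) {s : ℕ} (hs : s.Prime)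
    {y : L} (hy : orderOf y = s) :
    ¬ 4 ∣ ({z : L | z ∈ zpowers y ∧ ∃ k : L, k * y * k⁻¹ = z} : Set L).ncard := by
  have hsF : Fact s.Prime := ⟨hs⟩
  intro h
  set N := normalizer ((zpowers y : Subgroup L) : Set L) with hN
  have hcard := H809.PiSpor.card_normalizer y
  let f : N →* MulAut ↥(zpowers y) := (zpowers y).normalizerMonoidHom
  -- the kernel is the centralizer
  have hker : Nat.card f.ker = Nat.card (centralizer ({y} : Set L)) := by
    have h1 : f.ker = (centralizer ((zpowers y : Subgroup L) : Set L)).subgroupOf N :=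
      (zpowers y).normalizerMonoidHom_ker
    have h2 : centralizer ((zpowers y : Subgroup L) : Set L) = centralizer ({y} : Set L) := by
      apply le_antisymm
      · refine centralizer_le ?_
        rintro z rfl
        exact mem_zpowers _
      · intro z hz
        rw [mem_centralizer_iff]
        rintro w ⟨i, rfl⟩
        rw [mem_centralizer_singleton_iff] at hz
        exact ((show Commute z y from hz).zpow_right i).symm.eq
    have h3 : centralizer ({y} : Set L) ≤ N := by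
      rw [← h2, hN]
      exact centralizer_le_normalizer _
    rw [h1, h2]
    exact Nat.card_congr (Subgroup.subgroupOfEquivOfLe h3).toEquiv
  have hrange : Nat.card f.range = ({z : L | z ∈ zpowers y ∧ ∃ k : L, k * y * k⁻¹ = z} : Set L).ncard := by
    have h1 := f.ker.card_mul_index
    rw [index_ker, hker, mul_comm] at h1
    have h2 : 0 < Nat.card (centralizer ({y} : Set L)) := Nat.card_pos
    exact Nat.eq_of_mul_eq_mul_right h2 (h1.trans hcard)
  have hcyc : IsCyclic (MulAut ↥(zpowers y)) := by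
    have e := IsCyclic.mulAutMulEquiv ↥(zpowers y)
    have hc : Nat.card ↥(zpowers y) = s := by rw [Nat.card_zpowers, hy]
    rw [hc] at e
    exact (e.isCyclic).2 inferInstance
  have h5 : 4 ∣ Nat.card f.range := by rw [hrange]; exact h
  obtain ⟨a, ha⟩ : ∃ a : f.range, orderOf a = 4 := by
    obtain ⟨g, hg⟩ := IsCyclic.exists_generator (α := f.range)
    have h6 : orderOf g = Nat.card f.range := orderOf_eq_card_of_forall_mem_zpowers hg
    obtain ⟨k, hk⟩ := h5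
    refine ⟨g ^ k, ?_⟩
    have hk0 : 0 < k := by
      rcases Nat.eq_zero_or_pos k with h0 | h0
      · rw [h0, mul_zero] at hk
        exact absurd hk Nat.card_pos.ne'
      · exact h0
    rw [orderOf_pow, h6, hk, Nat.gcd_eq_right (Dvd.intro_left 4 rfl), Nat.mul_div_cancel _ hk0]
  obtain ⟨k, hk⟩ := a.2
  apply h4 (k : L)
  have h7 : orderOf (a : MulAut ↥(zpowers y)) = 4 := by rw [orderOf_coe]; exact ha
  rw [← h7, ← hk, orderOf_coe]
  exact orderOf_map_dvd f k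

/-- `fus` divides `c` -/
theorem fus_dvd {L : Type*} [Group L] [Finite L] {s : ℕ} [hs : Fact s.Prime]
    (hP : ∀ P : Sylow s L, IsCyclic (P : Subgroup L)) {A : Subgroup L} (hAc : IsCyclic A) (hsA : s ∣ Nat.card A) {c : ℕ}
    (hNc : Nat.card (normalizer (A : Set L)) = c * Nat.card A)
    (hN : ∀ A₀ : Subgroup L, A₀ ≤ A → A₀ ≠ ⊥ → normalizer (A₀ : Set L) = normalizer (A : Set L)) {y : L}
    (hy : orderOf y = s) : ({z : L | z ∈ zpowers y ∧ ∃ k : L, k * y * k⁻¹ = z} : Set L).ncard ∣ c := by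
  obtain ⟨x, hxA, hx, ⟨g, h1, h2⟩, h3⟩ := card_normalizer_eq hP hsA hN hy
  rw [hNc, H809.PiSpor.card_normalizer] at h3
  have h4 : A.map (MulAut.conj g).toMonoidHom ≤ centralizer ({y} : Set L) := by
    rintro _ ⟨a, ha, rfl⟩
    rw [mem_centralizer_singleton_iff]
    have h5 : a * x = x * a := by
      have hcomm : IsMulCommutative A := IsCyclic.isMulCommutative
      have := mul_comm' (⟨a, ha⟩ : A) ⟨x, hxA⟩
      exact congrArg Subtype.val this
    obtain ⟨i, hi⟩ := h1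
    have h6 : Commute (MulAut.conj g a) (g * x * g⁻¹) := by
      show g * a * g⁻¹ * (g * x * g⁻¹) = g * x * g⁻¹ * (g * a * g⁻¹)
      calc g * a * g⁻¹ * (g * x * g⁻¹) = g * (a * x) * g⁻¹ := by group
        _ = g * (x * a) * g⁻¹ := by rw [h5]
        _ = _ := by group
    rw [← hi]
    exact (h6.zpow_right i).eq
  have h5 : Nat.card A ∣ Nat.card (centralizer ({y} : Set L)) := by
    have h6 := Subgroup.card_dvd_of_le h4
    rwa [Subgroup.card_map_of_injective (MulAut.conj g).injective] at h6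
  obtain ⟨k, hk⟩ := h5
  have hA0 : 0 < Nat.card A := Nat.card_pos
  refine ⟨k, ?_⟩
  apply Nat.eq_of_mul_eq_mul_right hA0
  rw [← h3, hk]
  ring

/-- the order of the small Ree group, factorised -/
theorem num_card {q r : ℕ} (hr : r * r = 3 * q) (hrq : r ≤ q) :
    (q + 1) * ((q - r + 1) * (q + r + 1)) = q ^ 3 + 1 := by
  obtain ⟨d, rfl⟩ := Nat.exists_eq_add_of_le hrq
  rw [Nat.add_sub_cancel_left]
  zify
  zify at hr
  linear_combination (-(r : ℤ) - d - 1) * hr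

/-- the torus containing the elements of order `s` -/
theorem exists_torus {F : Type*} [Field F] [Fintype F] {m : ℕ} (hm : 1 ≤ m) (hK : Fintype.card F = 3 ^ (2 * m + 1))
    {s : ℕ} (hs : s.Prime) (hs3 : 3 < s)
    (hsL : s ∣ (3 ^ (2 * m + 1)) ^ 3 * (3 ^ (2 * m + 1) - 1) * ((3 ^ (2 * m + 1)) ^ 3 + 1)) :
    ∃ (A : Subgroup ↥(Lie.twistedG2 F (3 ^ m))) (c : ℕ), (c = 4 ∨ c = 24 ∨ c = 6) ∧ IsCyclic A ∧ s ∣ Nat.card A ∧
      Nat.card (normalizer (A : Set ↥(Lie.twistedG2 F (3 ^ m)))) = c * Nat.card A ∧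
      ∀ A₀ : Subgroup ↥(Lie.twistedG2 F (3 ^ m)), A₀ ≤ A → A₀ ≠ ⊥ →
        normalizer (A₀ : Set ↥(Lie.twistedG2 F (3 ^ m))) = normalizer (A : Set ↥(Lie.twistedG2 F (3 ^ m))) := by
  have hmod : 3 ^ (2 * m + 1) % 8 = 3 := three_pow_odd_mod m
  have hodd2 : ∀ k, s ∣ 2 * k → s ∣ k := by
    intro k hk
    rcases (hs.dvd_mul).1 hk with h2 | h2
    · have := (Nat.prime_dvd_prime_iff_eq hs Nat.prime_two).1 h2
      omega
    · exact h2
  have hrr : 3 ^ (m + 1) * 3 ^ (m + 1) = 3 * 3 ^ (2 * m + 1) := by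
    rw [← pow_add, ← pow_succ']
    congr 1
    omega
  have hrq : 3 ^ (m + 1) ≤ 3 ^ (2 * m + 1) := Nat.pow_le_pow_right (by norm_num) (by omega)
  rw [← num_card hrr hrq] at hsL
  have hS := S1158.result (K := F) hm hK
  set q := 3 ^ (2 * m + 1) with hq
  set r := 3 ^ (m + 1) with hr
  have hsq : ¬ s ∣ q ^ 3 := by
    intro h
    have h1 := hs.dvd_of_dvd_pow h
    have h2 := (Nat.prime_dvd_prime_iff_eq hs Nat.prime_three).1 (hs.dvd_of_dvd_pow (hq ▸ h1))
    omega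
  rcases (hs.dvd_mul).1 hsL with h1 | h1
  · -- `s ∣ q - 1`
    have h2 : s ∣ q - 1 := ((hs.dvd_mul).1 h1).resolve_left hsq
    obtain ⟨A, hA0, hA1, hA2, hA3⟩ := hS ((q - 1) / 2, 2 * (q - 1)) (Or.inl rfl)
    have hA1' : Nat.card A = (q - 1) / 2 := hA1
    have hA2' : Nat.card (normalizer (A : Set ↥(Lie.twistedG2 F (3 ^ m)))) = 2 * (q - 1) := hA2
    refine ⟨A, 4, Or.inl rfl, hA0, ?_, ?_, hA3⟩
    · rw [hA1']
      apply hodd2
      rwa [Nat.mul_div_cancel' (by omega)]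
    · rw [hA1', hA2']
      omega
  rcases (hs.dvd_mul).1 h1 with h2 | h2
  · -- `s ∣ q + 1`
    obtain ⟨A, hA0, hA1, hA2, hA3⟩ := hS ((q + 1) / 4, 6 * (q + 1)) (Or.inr (Or.inl rfl))
    have hA1' : Nat.card A = (q + 1) / 4 := hA1
    have hA2' : Nat.card (normalizer (A : Set ↥(Lie.twistedG2 F (3 ^ m)))) = 6 * (q + 1) := hA2
    refine ⟨A, 24, Or.inr (Or.inl rfl), hA0, ?_, ?_, hA3⟩
    · rw [hA1']
      apply hodd2
      apply hodd2
      have : 2 * (2 * ((q + 1) / 4)) = q + 1 := by omega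
      rwa [this]
    · rw [hA1', hA2']
      omega
  rcases (hs.dvd_mul).1 h2 with h3 | h3
  · obtain ⟨A, hA0, hA1, hA2, hA3⟩ := hS (q - r + 1, 6 * (q - r + 1)) (Or.inr (Or.inr (Or.inl rfl)))
    have hA1' : Nat.card A = q - r + 1 := hA1
    have hA2' : Nat.card (normalizer (A : Set ↥(Lie.twistedG2 F (3 ^ m)))) = 6 * (q - r + 1) := hA2
    exact ⟨A, 6, Or.inr (Or.inr rfl), hA0, by rwa [hA1'], by rw [hA1', hA2'], hA3⟩
  · obtain ⟨A, hA0, hA1, hA2, hA3⟩ := hS (q + r + 1, 6 * (q + r + 1)) (Or.inr (Or.inr (Or.inr rfl)))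
    have hA1' : Nat.card A = q + r + 1 := hA1
    have hA2' : Nat.card (normalizer (A : Set ↥(Lie.twistedG2 F (3 ^ m)))) = 6 * (q + r + 1) := hA2
    exact ⟨A, 6, Or.inr (Or.inr rfl), hA0, by rwa [hA1'], by rw [hA1', hA2'], hA3⟩

/-- no elements of order divisible by `4` -/
theorem not_four {F : Type*} [Field F] [Fintype F] {m : ℕ} (hm : 1 ≤ m) (hK : Fintype.card F = 3 ^ (2 * m + 1))
    [Finite ↥(Lie.twistedG2 F (3 ^ m))] (g : ↥(Lie.twistedG2 F (3 ^ m))) : ¬ 4 ∣ orderOf g := by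
  intro h
  obtain ⟨k, hk⟩ := h
  have hk0 : 0 < k := by
    rcases Nat.eq_zero_or_pos k with h0 | h0
    · rw [h0, mul_zero] at hk
      exact absurd hk (orderOf_pos g).ne'
    · exact h0
  have h1 : orderOf (g ^ k) = 4 := by
    rw [orderOf_pow, hk, Nat.gcd_eq_right (Dvd.intro_left 4 rfl), Nat.mul_div_cancel _ hk0]
  have hmod : 3 ^ (2 * m + 1) % 8 = 3 := three_pow_odd_mod m
  have hrq : 3 ^ (m + 1) ≤ 3 ^ (2 * m + 1) := Nat.pow_le_pow_right (by norm_num) (by omega)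
  have hr : 3 ^ (m + 1) % 2 = 1 := Nat.odd_iff.1 (Odd.pow (by decide))
  rcases (S1159.result (K := F) hm hK 4).1 ⟨_, h1⟩ with h | h | h | h | h | h
  · omega
  · omega
  · omega
  · omega
  · omega
  · omega

/-- **The fusion in the small Ree groups.** -/
theorem fus_ree {F : Type*} [Field F] [Fintype F] {m : ℕ} (hm : 1 ≤ m) (hK : Fintype.card F = 3 ^ (2 * m + 1))
    [Finite ↥(Lie.twistedG2 F (3 ^ m))]
    (hcyc : ∀ p : ℕ, p.Prime → 3 < p → ∀ P : Sylow p ↥(Lie.twistedG2 F (3 ^ m)), IsCyclic (P : Subgroup ↥(Lie.twistedG2 F (3 ^ m))))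
    {s : ℕ} (hs : s.Prime) (hs3 : 3 < s)
    (hsL : s ∣ (3 ^ (2 * m + 1)) ^ 3 * (3 ^ (2 * m + 1) - 1) * ((3 ^ (2 * m + 1)) ^ 3 + 1))
    {y : ↥(Lie.twistedG2 F (3 ^ m))} (hy : orderOf y = s) {x : MulAut ↥(Lie.twistedG2 F (3 ^ m))}
    (hx : x ∈ (MulAut.conj : ↥(Lie.twistedG2 F (3 ^ m)) →* MulAut ↥(Lie.twistedG2 F (3 ^ m))).range) : fus x y ≤ 6 := by
  have hsF : Fact s.Prime := ⟨hs⟩
  obtain ⟨A, c, hc, hA0, hA1, hA2, hA3⟩ := exists_torus hm hK hs hs3 hsL
  have h1 := fus_dvd (hcyc s hs hs3) hA0 hA1 hA2 hA3 hy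
  have h2 := not_four_dvd_fus (not_four hm hK) hs hy
  rw [H809.PiSpor.fus_eq_ncard hx y]
  set k := ({z : ↥(Lie.twistedG2 F (3 ^ m)) | z ∈ zpowers y ∧ ∃ k : ↥(Lie.twistedG2 F (3 ^ m)), k * y * k⁻¹ = z} :
    Set ↥(Lie.twistedG2 F (3 ^ m))).ncard with hk
  rcases hc with rfl | rfl | rfl
  · exact (Nat.le_of_dvd (by norm_num) h1).trans (by norm_num)
  · by_contra hcon
    push Not at hcon
    have h3 : k ≤ 24 := Nat.le_of_dvd (by norm_num) h1
    clear_value k
    interval_cases k <;> omega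
  · exact Nat.le_of_dvd (by norm_num) h1

end Cfsg.Agent.H594.Pi
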