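import Cfsg.Agent.H594.Pi.Sz
import Cfsg.Agent.H594.Pi.ReeFus

/-!
# S4324: the row of the small Ree groups (helper594)
-/

set_option autoImplicit false

namespace Cfsg.Agent.H594.Pi

open Subgroup Cfsg Cfsg.Agent.H216.Pi

theorem cyc_ree {K : Type} [Group K] [Finite K] (hG : Lie.IsoRee K) {s : ℕ} (hs : s.Prime) (hs3 : 3 < s)
    (P : Sylow s K) : IsCyclic (P : Subgroup K) := by
  have : Fact s.Prime := ⟨hs⟩
  obtain ⟨F, _, _, m, hm, hK, ⟨e⟩⟩ := hG
  have hfin : Finite ↥(Lie.twistedG2 F (3 ^ m)) := Finite.of_equiv _ e.toEquiv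
  exact H469.sylow_congr e (S1156.result hm hK hs3) P

theorem nr_ree {K : Type} [Group K] [Finite K] (hG : Lie.IsoRee K) : NR 3 K := by
  refine nr_of_cyc fun s hs hs3 hst P => ?_
  exact cyc_ree hG hs (by omega) P

theorem cy_ree {K : Type} [Group K] [Finite K] [IsSimpleGroup K] (hG : Lie.IsoRee K) : CY 3 K := by
  intro s r x hs hr hr3 hrs hrK hst hsK hP hx hxs hxr hPC hFC
  have hs3 : 3 < s := by omega
  obtain ⟨F, iF, iF', m, hm, hK, ⟨e⟩⟩ := hG
  have hfin : Finite ↥(Lie.twistedG2 F (3 ^ m)) := Finite.of_equiv _ e.toEquiv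
  obtain ⟨hsimp, hna⟩ := S1073.result hm hK
  obtain ⟨θ, c⟩ := Cfsg.Agent.ChevalleyStructure.Ree.Normal.exists_ctx hK
  have D := Cfsg.Agent.ChevalleyStructure.Ree.Data.data c
  have FF := H71.FldAut.reeFld c
  have hFC' : FC s (mm r) (H459.Rad.tr e x) := hFC.tr e
  have ho : orderOf (H459.Rad.tr e x) = orderOf x := H459.Rad.orderOf_tr e x
  have hcard : Nat.card ↥(Lie.twistedG2 F (3 ^ m)) = Nat.card K := (Nat.card_congr e.toEquiv).symm
  have hcyc : ∀ p : ℕ, p.Prime → 3 < p → ∀ P : Sylow p ↥(Lie.twistedG2 F (3 ^ m)), IsCyclic (P : Subgroup ↥(Lie.twistedG2 F (3 ^ m))) := by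
    intro p hp hp3 P
    have : Fact p.Prime := ⟨hp⟩
    exact S1156.result hm hK hp3 P
  have hsL : s ∣ Nat.card ↥(Lie.twistedG2 F (3 ^ m)) := by rw [hcard]; exact hsK
  rw [← ho] at hx hxs hxr
  obtain ⟨g, τ, hg⟩ := exists_form hm hK D FF (H459.Rad.tr e x)
  by_cases hτ : τ = 1
  · -- inner
    have hΦ1 : S2127.fld (1 : F ≃+* F) (3 ^ m) = 1 := by
      have h1 := H71.FldAut.fldG_mul (1 : F ≃+* F) 1 (3 ^ m)
      rw [mul_one] at h1
      exact mul_eq_left.1 h1.symm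
    have hx' : H459.Rad.tr e x ∈
        (MulAut.conj : ↥(Lie.twistedG2 F (3 ^ m)) →* MulAut ↥(Lie.twistedG2 F (3 ^ m))).range := by
      refine ⟨g, ?_⟩
      rw [hg, hτ, hΦ1, mul_one]
    have : Fact s.Prime := ⟨hs⟩
    obtain ⟨y, hy⟩ := exists_prime_orderOf_dvd_card' s hsL
    have h1 : fus (H459.Rad.tr e x) y ≤ 6 := by
      refine fus_ree hm hK hcyc hs hs3 ?_ hy hx'
      have h2 := Cfsg.Agent.LieRecognition.ReeSylowThree.card_eq D
      rw [hK] at h2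
      rw [← h2]
      exact hsL
    exact H326.PiC.false_of_fus hna hs (hcyc s hs hs3) hx hxs hy (by omega) hFC'.eleven
  · have hLie : IsLieTypeChar 3 ↥(Lie.twistedG2 F (3 ^ m)) := by
      have h1 : Lie.IsoRee ↥(Lie.twistedG2 F (3 ^ m)) := ⟨F, iF, iF', m, hm, hK, ⟨MulEquiv.refl _⟩⟩
      unfold IsLieTypeChar
      tauto
    refine false_outer (m := m) hm hK D FF ?_ (fun σ τ => H71.FldAut.fldG_mul σ τ _) hcyc
      (fun l hl hl2 hlK g hg => reg hm hK hcyc hl hl2 hlK g hg) hLie hs hst hsL hx hg hτ (by have := mm_ge r; omega) hFC'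
    have h1 := H71.FldAut.fldG_mul (1 : F ≃+* F) 1 (3 ^ m)
    rw [mul_one] at h1
    exact mul_eq_left.1 h1.symm

end Cfsg.Agent.H594.Pi
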