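import Cfsg.Agent.H216.Pi.Lie
import Cfsg.Agent.H326.PiC.Main
import Cfsg.Agent.H326.PiY.Fus
import Cfsg.Agent.H469.RowRank

/-!
# S4324: the row of the Suzuki groups (helper594)
-/

set_option autoImplicit false

namespace Cfsg.Agent.H594.Pi

open Subgroup Cfsg Cfsg.Agent.H216.Pi

/-- vacuous: the Sylow `s`-subgroups are cyclic -/
theorem nr_of_cyc {t : ℕ} {K : Type*} [Group K] (h : ∀ s : ℕ, s.Prime → 3 ≤ s → s ≠ t → ∀ P : Sylow s K, IsCyclic (P : Subgroup K)) :
    NR t K := by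
  intro s r x hs _ hr3 hrs _ hst _ hP _ _ _ _ _
  have : Fact s.Prime := ⟨hs⟩
  have P : Sylow s K := default
  exact hP P (h s hs (hr3.trans hrs) hst P)

theorem fus_sz {K : Type} [Group K] (h : Lie.IsoSuzuki K) {s : ℕ} (hs : s.Prime) (hs2 : s ≠ 2) {y : K}
    (hy : orderOf y = s) : fus 1 y ≤ 4 := by
  obtain ⟨F, iF, iF', m, hm, hF, ⟨e⟩⟩ := h
  have hfin : Finite K := Finite.of_equiv _ e.symm.toEquiv
  have hchar : CharP F 2 := by
    have : Fact (Nat.Prime 2) := ⟨Nat.prime_two⟩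
    exact charP_of_card_eq_prime_pow hF
  have hsF : (s : F) ≠ 0 := by
    intro h1
    rw [CharP.cast_eq_zero_iff F 2] at h1
    exact hs2 ((Nat.prime_dvd_prime_iff_eq Nat.prime_two hs).1 h1).symm
  let ρ : K →* Matrix (Fin 4) (Fin 4) F :=
    (Units.coeHom (Matrix (Fin 4) (Fin 4) F)).comp ((Lie.Sz F (2 ^ (m + 1))).subtype.comp e.toMonoidHom)
  refine H326.PiY.fus_one_le (MonoidHom.id K) (fun k => ⟨k, rfl⟩) ?_ ρ ?_ hs hsF ?_ hy
  · intro z hz a
    have : z = 1 := hz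
    rw [this, one_mul, mul_one]
  · intro a b hab
    exact e.injective (Subtype.ext (Units.ext hab))
  · have : (MonoidHom.id K).ker = ⊥ := by
      ext k
      exact Iff.rfl
    rw [this, Subgroup.card_bot]
    exact fun h => hs.one_lt.ne' (Nat.dvd_one.1 h)

theorem nr_sz {K : Type} [Group K] [Finite K] (hG : Lie.IsoSuzuki K) : NR 2 K := by
  refine nr_of_cyc fun s hs _ hst P => ?_
  have : Fact s.Prime := ⟨hs⟩
  exact H469.RowRank.row_suzuki hst hG P

theorem cy_sz {K : Type} [Group K] [Finite K] [IsSimpleGroup K] (hna : ¬ IsMulCommutative K)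
    (hG : Lie.IsoSuzuki K) : CY 2 K := by
  intro s r x hs hr hr3 hrs hrK hst hsK hP hx hxs hxr hPC hFC
  have : Fact s.Prime := ⟨hs⟩
  obtain ⟨y, hy⟩ := exists_prime_orderOf_dvd_card' s hsK
  have h1 := fus_sz hG hs hst hy
  exact H326.PiC.false_of_fus_two hna hs hP hx hy (by omega) hFC.eleven

end Cfsg.Agent.H594.Pi
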